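import Cfsg.Agent.H288.E8L.Iface2
import Cfsg.Agent.H857.E8L.Rep
import Cfsg.Agent.H943.E8Fix

/-!
# S5921, `L₂(81)` in `E₈(3)`: the highest weight argument (`HW` of `H288.E8L.Iface2`)
-/

set_option autoImplicit false
set_option linter.unusedSectionVars false
set_option maxRecDepth 100000

namespace Cfsg.Agent.H72.E8L

open CoxeterSystem Cfsg Cfsg.Lie Cfsg.Lie.ChevalleyDatum
open Cfsg.Agent.ChevalleyStructure Cfsg.Agent.ChevalleyStructure.Elts Cfsg.Agent.ChevalleyStructure.CoxeterGeom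
  Cfsg.Agent.ChevalleyStructure.CoxeterGeomTypes Cfsg.Agent.ChevalleyStructure.RootVec
  Cfsg.Agent.ChevalleyStructure.RootVecTab
open Cfsg.Agent.Tits.Roots Cfsg.Agent.Tits.Core Cfsg.Agent.Nodes Cfsg.Agent.Nodes.Reps Cfsg.Agent.Nodes.BNOf
  Cfsg.Agent.Nodes.RGDChev
open Cfsg.Agent.GpExc.Field Cfsg.Agent.BpExc.TowChev Cfsg.Agent.H129.TorusChar
open Cfsg.Agent.KFacts.RgdChevCoord
open Cfsg.Agent.H942.E8Tab Cfsg.Agent.H942.E8Alc Cfsg.Agent.H942.CB Cfsg.Agent.H944.Tab Cfsg.Agent.H944.Kac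
open Cfsg.Agent.H288.E8L
open Matrix

/-- the form on the root lattice -/
abbrev fm (x y : Q8) : ℤ := H943.LatFix.ip (cartanOf chevE8 8) x y

theorem sym : ∀ i j, cartanOf chevE8 8 i j = cartanOf chevE8 8 j i := by
  rw [H943.E8Fix.cartan_eq]; exact H943.E8Fix.C8_symm

theorem dia : ∀ i, cartanOf chevE8 8 i i = 2 := by
  rw [H943.E8Fix.cartan_eq]; exact H943.E8Fix.C8_diag

theorem fm_add_right (x y z : Q8) : fm x (y + z) = fm x y + fm x z := by
  unfold fm
  rw [H943.LatFix.ip_symm sym, H943.LatFix.ip_add_left, H943.LatFix.ip_symm sym y, H943.LatFix.ip_symm sym z]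

theorem fm_pos {x : Q8} (hx : x ≠ 0) : 0 < fm x x := by
  have h1 : 0 ≤ fm x x := by
    unfold fm
    rw [H943.E8Fix.cartan_eq]
    exact H943.E8Fix.ip_C8_nonneg x
  rcases h1.lt_or_eq with h | h
  · exact h
  · exfalso
    have h2 : H943.LatFix.ipQ H943.E8Fix.C8 (H378.LatCyc.vq x) (H378.LatCyc.vq x) = 0 := by
      rw [H943.LatFix.ipQ_vq]
      unfold fm at h
      rw [H943.E8Fix.cartan_eq] at h
      exact_mod_cast h.symm
    exact hx (H378.LatCyc.vq_eq_zero.1 (H943.E8Fix.ipQ_C8_pos _ h2))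

theorem fm_wt (i : chevE8.Idx) : fm (wt i) (wt i) ≤ 2 := by
  rcases i with i | s
  · rw [wt_inl]
    have := H943.LatFix.ip_smul_left (cartanOf chevE8 8) 0 0 0
    rw [zero_smul, zero_mul] at this
    unfold fm
    rw [this]; norm_num
  · rw [wt_inr]
    exact (H943.LatFix.ip_root sym dia (rt_vec s)).le

/-- **HW** -/
theorem hw : HW := by
  intro W f w0 n0 u hW hn hw0 hu heq s hb
  obtain ⟨b, hbd⟩ : ∃ b, b = vec chevE8 8 s := ⟨_, rfl⟩
  have hbR : Rt b := by rw [hbd]; exact rt_vec s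
  have hb0 : b ≠ 0 := by rw [hbd]; exact vec_ne_zero s
  rw [← hbd] at hb ⊢
  have hbb : fm b b = 2 := H943.LatFix.ip_root sym dia hbR
  -- nonnegativity on the monoid
  have h1 : ∀ x ∈ CL W, 0 ≤ fm b x := by
    refine cl_ind hW ?_ hb ?_
    · have := H943.LatFix.ip_smul_left (cartanOf chevE8 8) 0 0 b
      rw [zero_smul, zero_mul, H943.LatFix.ip_symm sym] at this
      exact this.ge
    · intro x y hx hy
      rw [fm_add_right]
      exact add_nonneg hx hy
  -- the column of `b`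
  have h2 : ∀ g ∈ W, ∀ i, mx g i (Sum.inr s) ≠ 0 → i = Sum.inr s := by
    intro g hg i hne
    rcases supp_mem hg i (Sum.inr s) hne with h | h
    · exact wt_inj h (by rw [h, wt_inr, ← hbd]; exact hb0)
    · exfalso
      obtain ⟨ν, hν⟩ : ∃ ν, ν = wt i - wt (Sum.inr s : chevE8.Idx) := ⟨_, rfl⟩
      rw [← hν] at h
      have e : wt i = b + ν := by rw [hν, wt_inr, ← hbd]; abel
      have h3 := fm_wt i
      rw [e, fm_add_right] at h3
      have e2 : fm (b + ν) b = 2 + fm b ν := by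
        unfold fm
        rw [H943.LatFix.ip_add_left, H943.LatFix.ip_symm sym ν]
        show fm b b + _ = _
        rw [hbb]
      have e3 : fm (b + ν) ν = fm b ν + fm ν ν := by
        unfold fm
        rw [H943.LatFix.ip_add_left]
      have h4 := h1 ν (PP_le h)
      have h5 := fm_pos h.1
      omega
  have h2' : ∀ g ∈ W, ∀ i, mx g i (Sum.inr s) = if i = Sum.inr s then 1 else 0 := by
    intro g hg i
    split_ifs with h
    · rw [h]; exact (hW g hg).1 _
    · by_contra hne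
      exact h (h2 g hg i hne)
  -- the index of `-b`
  have hnb : Rt (-b) := hbR.neg
  obtain ⟨s', hs'⟩ := exists_idx hnb
  have hN : ∀ i j, mx n0 i j ≠ 0 → wt i = -wt j := by
    intro i j hij
    rw [H857.E8L.wts w0 n0 hn i j hij, hw0]
  -- the columns of `n0`
  have hcb : ∀ i, mx n0 i (Sum.inr s) ≠ 0 → i = Sum.inr s' := by
    intro i hi
    have h3 := hN _ _ hi
    rw [wt_inr, ← hbd] at h3
    exact wt_inj (by rw [h3, wt_inr, hs']) (by rw [h3]; exact neg_ne_zero.2 hb0)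
  have hcb' : ∀ i, mx n0 i (Sum.inr s') ≠ 0 → i = Sum.inr s := by
    intro i hi
    have h3 := hN _ _ hi
    rw [wt_inr, hs', _root_.neg_neg] at h3
    exact wt_inj (by rw [h3, wt_inr, ← hbd]) (by rw [h3]; exact hb0)
  have hinv : mx n0 * mx n0⁻¹ = 1 := by
    rw [← mx_mul, mul_inv_cancel]; rfl
  have hinv' : mx n0⁻¹ * mx n0 = 1 := by
    rw [← mx_mul, inv_mul_cancel]; rfl
  have hcol : ∀ j, ∃ i, mx n0 i j ≠ 0 := by
    intro j
    by_contra hne
    push Not at hne
    have h3 := congrFun (congrFun hinv' j) j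
    rw [Matrix.mul_apply, Matrix.one_apply_eq] at h3
    rw [Finset.sum_eq_zero (fun i _ => by rw [hne i, mul_zero])] at h3
    exact zero_ne_one h3
  have hc : mx n0 (Sum.inr s') (Sum.inr s) ≠ 0 := by
    obtain ⟨i, hi⟩ := hcol (Sum.inr s)
    rwa [hcb i hi] at hi
  have hd : mx n0 (Sum.inr s) (Sum.inr s') ≠ 0 := by
    obtain ⟨i, hi⟩ := hcol (Sum.inr s')
    rwa [hcb' i hi] at hi
  -- the identity
  have hg : n0 * u = u⁻¹ * n0 * u⁻¹ * n0 := by
    calc n0 * u = u⁻¹ * (u * n0 * u) := by group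
      _ = u⁻¹ * n0 * u⁻¹ * n0 := by rw [heq]; group
  have key : mx n0 * mx u = mx u⁻¹ * mx n0 * mx u⁻¹ * mx n0 := congrArg mx hg
  have hui : u⁻¹ ∈ W := inv_mem hu
  have e1 : mx u⁻¹ *ᵥ Pi.single (Sum.inr s) 1 = Pi.single (Sum.inr s) 1 := by
    rw [Matrix.mulVec_single_one]
    funext i
    rw [Matrix.col_apply, h2' _ hui i, Pi.single_apply]
  have e2 : mx n0 *ᵥ Pi.single (Sum.inr s) 1 = mx n0 (Sum.inr s') (Sum.inr s) • (Pi.single (Sum.inr s') 1 : chevE8.Idx → K8) := by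
    rw [Matrix.mulVec_single_one]
    funext i
    rw [Matrix.col_apply, Pi.smul_apply, Pi.single_apply, smul_eq_mul]
    split_ifs with h
    · rw [h, mul_one]
    · rw [mul_zero]
      by_contra hne
      exact h (hcb i hne)
  have e3 : mx n0 *ᵥ Pi.single (Sum.inr s') 1 = mx n0 (Sum.inr s) (Sum.inr s') • (Pi.single (Sum.inr s) 1 : chevE8.Idx → K8) := by
    rw [Matrix.mulVec_single_one]
    funext i
    rw [Matrix.col_apply, Pi.smul_apply, Pi.single_apply, smul_eq_mul]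
    split_ifs with h
    · rw [h, mul_one]
    · rw [mul_zero]
      by_contra hne
      exact h (hcb' i hne)
  have key2 := congrFun (congrArg (fun M => M *ᵥ (Pi.single (Sum.inr s') 1 : chevE8.Idx → K8)) key) (Sum.inr s')
  simp only [← Matrix.mulVec_mulVec] at key2
  rw [e3, Matrix.mulVec_smul, e1, Matrix.mulVec_smul, e2, Matrix.mulVec_smul, Matrix.mulVec_smul,
    Pi.smul_apply, Pi.smul_apply, Matrix.mulVec_single_one, Matrix.mulVec_single_one, Matrix.col_apply,
    (hW _ hui).1, smul_eq_mul, smul_eq_mul, mul_one] at key2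
  have hne : (mx n0 *ᵥ (mx u).col (Sum.inr s')) (Sum.inr s') ≠ 0 := by
    rw [key2]
    exact mul_ne_zero hd hc
  have hne' : ∑ p, mx n0 (Sum.inr s') p * mx u p (Sum.inr s') ≠ 0 := hne
  obtain ⟨p, -, hp⟩ := Finset.exists_ne_zero_of_sum_ne_zero hne'
  have hp1 := left_ne_zero_of_mul hp
  have hp2 := right_ne_zero_of_mul hp
  have hwp : wt p = b := by
    have h3 := hN _ _ hp1
    rw [wt_inr, hs'] at h3
    exact (neg_injective h3).symm
  have e4 : (2 : ℤ) • b = wt p - wt (Sum.inr s' : chevE8.Idx) := by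
    rw [hwp, wt_inr, hs', sub_neg_eq_add, two_smul]
  rw [e4]
  refine PP_le (disp_of_entry hu hp2 ?_)
  rw [hwp, wt_inr, hs']
  intro h
  exact hb0 (self_eq_neg.1 h)

end Cfsg.Agent.H72.E8L
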